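import Cfsg.Agent.Mrg.Omega.NO3b.Exit.TenSplit
import Cfsg.Agent.Mrg.Omega.NO3b.Chain.Group
import Cfsg.Agent.Mrg.Omega.NOThreeL.VF.One


/-!
# (C)(2) of GammaFF, part 3: `|A₀| < |V / F|` if `V` is not FF (helper194, #20969)

* `noOff_of_nff` : `NotFF V`: no subgroup of `N_G(V)` offends on `V`;
* `card_AZ_lt` : `x A₀ x⁻¹ ≤ Q ≤ im M` acts faithfully on `V / F`: `|A₀| < |V / F|`.
-/

set_option autoImplicit false

namespace Cfsg.Agent.Omega.NO3b.CTwoFF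

open Subgroup Cfsg
open Cfsg.Agent.Omega.NO3b.EZero (NotFF)
open Cfsg.Agent.Omega.FFThm (ElemM OffM)
open Cfsg.Agent.Omega.NO3b.Exit.Bridge
open Cfsg.Agent.Omega.NO3b.Exit.LocBar (pr_mem_im)
open Cfsg.Agent.Omega.NO3b.Chain (pre mem_pre)
open Cfsg.Agent.Omega.FFBr (XX pr im mem_im)
open Cfsg.Agent.Omega.NO3b.Exit.Ten

universe u

variable {G : Type u} [Group G] [Finite G]

/-- `NotFF V`: no subgroup of `N_G(V)` offends on `V`. -/
theorem noOff_of_nff {V A : Subgroup G} (nff : NotFF V) (hA : A ≤ normalizer (V : Set G)) : ¬ OffM V A := by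
  intro hoff
  obtain ⟨B, hB, hB2, h1⟩ := NOThreeL.VF.exists_two hA hoff.toElemM
  have hne : ¬ B ≤ centralizer (V : Set G) := fun hc => hoff.ne fun a ha => by
    obtain ⟨b, hb, hab⟩ := h1 a ha
    have h2 := mul_mem (hc hb) hab
    have e : b * (b⁻¹ * a) = a := by group
    rwa [e] at h2
  have hE := NOThreeL.VF.elemM_mono hoff.toElemM hB
  have h3 := nff B hB2 (hB.trans hA) hE.sq hE.comm hne
  have h4 : Nat.card V ≤ NOThreeL.VF.fM V B := by
    rw [NOThreeL.VF.fM_congr hB h1]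
    exact NOThreeL.VF.le_fM_iff.2 hoff.le
  exact absurd (FFThm.relIndex_le_iff.1 (NOThreeL.VF.le_fM_iff.1 h4)) (not_le.2 h3)

variable {H U : Subgroup G} (h : H ≤ normalizer (U : Set G)) {hcU : U ≤ centralizer (U : Set G)}

omit [Finite G] in
theorem un_mono {A B : AddSubgroup (MU hcU)} (hAB : A ≤ B) : un A ≤ un B := by
  rintro _ ⟨w, hw, rfl⟩
  exact ⟨w, hAB hw, rfl⟩

omit [Finite G] in
theorem card_un (A : AddSubgroup (MU hcU)) : Nat.card (un A) = Nat.card A := by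
  have h1 := card_ad_of_le (hc := hcU) (un_le A)
  rw [ad_un] at h1
  exact h1.symm

/-- `|V / F|` in `G` and in the module -/
theorem relIndex_un {V : Subgroup G} (hVU : V ≤ U) {F : AddSubgroup (MU hcU)} (hF : F ≤ ad hcU V) :
    (un F).relIndex V = F.relIndex (ad hcU V) := by
  have hFV : un F ≤ V := by
    rintro _ ⟨w, hw, rfl⟩
    exact hF hw
  have h1 : Nat.card (un F) * (un F).relIndex V = Nat.card V := by
    have e := relIndex_mul_relIndex (⊥ : Subgroup G) (un F) V bot_le hFV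
    rwa [relIndex_bot_left, relIndex_bot_left] at e
  have h2 : Nat.card F * F.relIndex (ad hcU V) = Nat.card (ad hcU V) := by
    have e := AddSubgroup.relIndex_mul_relIndex (⊥ : AddSubgroup (MU hcU)) F (ad hcU V) bot_le hF
    rwa [AddSubgroup.relIndex_bot_left, AddSubgroup.relIndex_bot_left] at e
  rw [card_un] at h1
  rw [card_ad_of_le hVU] at h2
  have h3 : 0 < Nat.card F := Nat.card_pos
  exact Nat.eq_of_mul_eq_mul_left h3 (h1.trans h2.symm)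

/-- **`|A₀| < |V / F|`** -/
theorem card_AZ_lt {M V : Subgroup G} (nff : NotFF V) (hMV : M ≤ normalizer (V : Set G)) (_hMH : M ≤ H)
    (hVU : V ≤ U) {Y Q BB : Subgroup (XX h)} {F L C : AddSubgroup (MU hcU)} {x : XX h}
    (D : Dat Y Q BB (ad hcU V) F L C x) (hQM : Q ≤ im h M) : Nat.card D.AZ < F.relIndex (ad hcU V) := by
  by_contra hle
  push Not at hle
  -- the elements of `Q` used
  have hQ : ∀ s ∈ D.AZ, x * s * x⁻¹ ∈ Q := fun s hs => D.hA s hs.1 hs.2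
  let Q' : Subgroup (XX h) := D.AZ.map (MulAut.conj x).toMonoidHom
  have hQ' : ∀ q, q ∈ Q' ↔ ∃ s ∈ D.AZ, x * s * x⁻¹ = q := fun q => Iff.rfl
  let A : Subgroup G := M ⊓ pre h Q'
  have hpr : ∀ a (_ : a ∈ A), ∃ (ha : a ∈ H), ∃ s ∈ D.AZ, x * s * x⁻¹ = pr h ⟨a, ha⟩ := by
    rintro a ⟨-, ha⟩
    obtain ⟨haH, ha'⟩ := (mem_pre h).1 ha
    exact ⟨haH, (hQ' _).1 ha'⟩
  have hex : ∀ s (_ : s ∈ D.AZ), ∃ a ∈ A, ∃ ha : a ∈ H, pr h ⟨a, ha⟩ = x * s * x⁻¹ := by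
    intro s hs
    obtain ⟨⟨a, haH⟩, ha, e⟩ := mem_im.1 (hQM (hQ s hs))
    exact ⟨a, ⟨ha, (mem_pre h).2 ⟨haH, by rw [e]; exact (hQ' _).2 ⟨s, hs, rfl⟩⟩⟩, haH, e⟩
  -- elements which act trivially on `U`
  have htriv : ∀ g (hg : g ∈ H), pr h ⟨g, hg⟩ = 1 → g ∈ centralizer (V : Set G) := by
    intro g hg hg1
    rw [mem_centralizer_iff]
    intro v hv
    have h1 : pr h ⟨g, hg⟩ • mk hcU (hVU hv) = mk hcU (hVU hv) := by rw [hg1, one_smul]
    exact ((pr_smul_eq_iff' h).1 h1).symm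
  refine noOff_of_nff nff (A := A) (inf_le_left.trans hMV) ⟨⟨?_, ?_⟩, ?_, ?_⟩
  · intro a ha
    obtain ⟨haH, s, hs, e⟩ := hpr a ha
    refine htriv _ (pow_mem haH 2) ?_
    have e1 : (⟨a ^ 2, pow_mem haH 2⟩ : H) = ⟨a, haH⟩ ^ 2 := rfl
    rw [e1, map_pow, ← e, pow_two]
    have e2 : x * s * x⁻¹ * (x * s * x⁻¹) = x * (s * s) * x⁻¹ := by group
    rw [e2, D.sq_B (D.AZ_le hs), mul_one, mul_inv_cancel]
  · intro a ha b hb
    obtain ⟨haH, s, hs, e⟩ := hpr a ha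
    obtain ⟨hbH, t, ht, e'⟩ := hpr b hb
    refine htriv _ (mul_mem (mul_mem (mul_mem haH hbH) (inv_mem haH)) (inv_mem hbH)) ?_
    have e1 : (⟨a * b * a⁻¹ * b⁻¹, mul_mem (mul_mem (mul_mem haH hbH) (inv_mem haH)) (inv_mem hbH)⟩ : H) =
        ⟨a, haH⟩ * ⟨b, hbH⟩ * ⟨a, haH⟩⁻¹ * ⟨b, hbH⟩⁻¹ := rfl
    rw [e1, map_mul, map_mul, map_mul, map_inv, map_inv, ← e, ← e']
    have e2 : x * s * x⁻¹ * (x * t * x⁻¹) * (x * s * x⁻¹)⁻¹ * (x * t * x⁻¹)⁻¹ = x * (s * t * s⁻¹ * t⁻¹) * x⁻¹ := by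
      group
    rw [e2, D.comm_B (D.AZ_le hs) (D.AZ_le ht)]
    group
  · intro hAc
    obtain ⟨s, hsB, hs1, hsF⟩ := D.ne
    obtain ⟨a, ha, haH, e⟩ := hex s ⟨hsB, hsF⟩
    apply hs1
    refine D.h_faith ⟨hsB, hsF⟩ fun v hv => ?_
    rw [← e, br_eq_zero]
    exact (pr_smul_eq_iff' h).2 (mem_centralizer_iff.1 (hAc ha) _ hv).symm
  · rw [FFThm.relIndex_le_iff]
    have hFA : un F ≤ centralizer (A : Set G) := by
      rintro _ ⟨f, hf, rfl⟩
      rw [mem_centralizer_iff]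
      intro a ha
      obtain ⟨haH, s, hs, e⟩ := hpr a ha
      refine (pr_smul_eq_iff' (hc := hcU) h (g := ⟨a, haH⟩) (w := f)).1 ?_
      rw [← e]
      exact D.qF _ (hQ s hs) f hf
    have h1 : (centralizer (A : Set G)).relIndex V ≤ Nat.card D.AZ :=
      (relIndex_le_of_le_left hFA index_ne_zero_of_finite).trans ((relIndex_un hVU D.FV).le.trans hle)
    refine h1.trans ?_
    -- `A₀ → A / C_A(V)` is injective
    choose! a haA haH hpa using fun s (hs : s ∈ D.AZ) => hex s hs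
    change Nat.card D.AZ ≤ Nat.card (A ⧸ (centralizer (V : Set G)).subgroupOf A)
    refine Nat.card_le_card_of_injective (fun s => (QuotientGroup.mk (⟨a s, haA s s.2⟩ : A) :
      A ⧸ (centralizer (V : Set G)).subgroupOf A)) fun s t hst => ?_
    have h2 := QuotientGroup.eq.1 hst
    rw [mem_subgroupOf] at h2
    have h3 : (a s)⁻¹ * a t ∈ centralizer (V : Set G) := h2
    have h4 : (s : XX h)⁻¹ * t ∈ D.AZ := mul_mem (inv_mem s.2) t.2
    have h5 : (s : XX h)⁻¹ * t = 1 := by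
      refine D.h_faith h4 fun v hv => ?_
      have e : x * ((s : XX h)⁻¹ * t) * x⁻¹ = (x * s * x⁻¹)⁻¹ * (x * t * x⁻¹) := by group
      have hH : (a s)⁻¹ * a t ∈ H := mul_mem (inv_mem (haH s s.2)) (haH t t.2)
      have e3 : x * ((s : XX h)⁻¹ * t) * x⁻¹ = pr h ⟨(a s)⁻¹ * a t, hH⟩ := by
        rw [e, ← hpa s s.2, ← hpa t t.2, ← map_inv, ← map_mul]
        rfl
      rw [e3, br_eq_zero]
      exact (pr_smul_eq_iff' h).2 (mem_centralizer_iff.1 h3 _ hv).symm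
    exact Subtype.ext (inv_mul_eq_one.1 h5)

end Cfsg.Agent.Omega.NO3b.CTwoFF
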