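import Cfsg.Agent.Mrg.Omega.NO3b.Exit.Bridge
import Cfsg.Agent.Mrg.Omega.NO3b.Closed.InstPar
import Cfsg.Agent.Mrg.Omega.NO3b.BetaTwo.NoOver
import Cfsg.Agent.Mrg.Omega.NO3S.Level.Cut


/-!
# (C)(2) of GammaFF (helper706 #20287, helper194 #20969; cut: helper781 #19713)

* `false_of_blk` : `P ∈ P**`, `P ≤ M(L)`, all `P' ∈ P*(S)` in `M(L)` normalise `V_P`, some subgroup of `S` offends on
  `V_P`: `V(L)` has no block structure (`HasBlk`);
* **`false_of_nfRoot`** : `NFRoot S M`, `P ≤ M`, `P ∈ P**` FF, all of `P*(S)` normalises `V_P` is impossible: at the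
  last member of a chain from `M` every panel has type (γ) (THEOREM BETA2, helper235, `BetaTwo/Main.lean`);
* **`ctwo`** : the 4th branch of `Level.cut` does not occur.
-/

set_option autoImplicit false

namespace Cfsg.Agent.Omega.NO3b.CTwoFF

open Subgroup Cfsg
open Cfsg.Agent.ZN (o2 zc zl jj zj)
open Cfsg.Agent.ZN.ChoiceBase hiding mem_zc
open Cfsg.Agent.ZN.ChoiceSit (Syl o2_le_syl)
open Cfsg.Agent.Omega.MinPar Cfsg.Agent.Omega.Frame Cfsg.Agent.Omega.FrameNOFF
open Cfsg.Agent.Omega.NO3b.EZero (NotFF Par cent_symm oddGen_sup_syl)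
open Cfsg.Agent.Omega.NO3b.Alpha (Fl)
open Cfsg.Agent.Omega.NO3b.Wc
open Cfsg.Agent.Omega.NO3b.Chain
open Cfsg.Agent.Omega.FFThm (OffM)
open Cfsg.Agent.Omega.NO3S (PSS FFMod)
open Cfsg.Agent.Omega.NO3S.Level (W0 M0 MZ_le par_le)
open Cfsg.Agent.Omega.NOThreeL.Merge (MZ)
open Cfsg.Agent.Omega.NOThreeL.MergeNF (NFRoot)
open Cfsg.Agent.MinSimple.VModule (oddGen oddGen_le le_normalizer_zl zl_le zc_le_zl)
open Cfsg.Agent.Omega.NO3b.Exit.Bridge

universe u

variable {G : Type u} [Group G] [Finite G] {S : Sylow 2 G} {P L : Subgroup G}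

/-- **(γ)** -/
theorem false_of_blk (hc : IsCharacteristicTwoType G) (hne : zc (S : Subgroup G) ≠ ⊥)
    (hP : IsParS (S : Subgroup G) P) (hn : NonLoc P (CZ (S : Subgroup G))) (hL : Root S L)
    (hPM : P ≤ ML (S : Subgroup G) L)
    (hN : ∀ P' : Subgroup G, IsParS (S : Subgroup G) P' → P' ≤ ML (S : Subgroup G) L →
      P' ≤ normalizer (zl (S : Subgroup G) P : Set G))
    {A : Subgroup G} (hAS : A ≤ (S : Subgroup G)) (hoff : OffM (zl (S : Subgroup G) P) A)
    {U H : Subgroup G} (hH : H ≤ normalizer (U : Set G)) (hU : U ≤ centralizer (U : Set G))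
    (hMH : ML (S : Subgroup G) L ≤ H) (hVU : VL (S : Subgroup G) L ≤ U)
    (hB : HasBlk (S : Subgroup G) L hH hU) : False := by
  obtain ⟨Y, Q, BB, KV, F, Lw, C, x, B⟩ := hB
  have ne := (ne_norm hH (hcU := hU) hc hne hP.toIsPar hL hPM
    (fun P' hP' hPM' => zl_le (zc_le_zl _ _) (hN P' hP' hPM')) hMH hVU B.YM
    (fun m hm n hn => B.YM_conj hm hn)
    (fun y hy hyS v hv hvS => B.hX hy hyS hv fun s hs hsY => hvS s ⟨hs, hsY⟩) (by
      intro h0
      obtain ⟨s, hs, hsY, v, hv, hne⟩ := B.moves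
      exact hne (h0 s ⟨hs, hsY⟩ v hv))).1
  have p := pf_of hH hc hP.toIsPar hn hL hPM hMH hVU B ne
  obtain ⟨k, E, hk, hind, hsup, hPE, hirr, hmv, hiso⟩ := shape_of hH hc hne hP.toIsPar hn hPM hMH hVU p
  have hk2 : 2 ≤ k := by
    by_contra hk2
    have hk1 : k = 1 := by omega
    subst hk1
    have e : E 0 = zl (S : Subgroup G) P := by
      rw [← hsup]
      refine le_antisymm (le_iSup E 0) (iSup_le fun j => ?_)
      rw [Subsingleton.elim j 0]
    refine not_irr hH hne hP.toIsPar hL hPM hN hMH hVU p fun A hA hPA => ?_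
    have h1 := hirr 0 A (hA.trans e.ge) hPA
    rwa [e] at h1
  exact false_of_pow FFBr.aStmt hc hP hk2 hind hsup hPE hirr hmv
    (fun i j => by
      obtain ⟨f, -, hf⟩ := hiso i j
      exact ⟨f, hf⟩) hAS hoff

section root

variable {M : Subgroup G} (hc : IsCharacteristicTwoType G) (hne : zc (S : Subgroup G) ≠ ⊥)
  (r : NFRoot (S : Subgroup G) M) (hP : IsParS (S : Subgroup G) P) (hn : NonLoc P (CZ (S : Subgroup G)))
  (hPM : P ≤ M)
  (hN : ∀ P' : Subgroup G, IsParS (S : Subgroup G) P' → P' ≤ normalizer (zl (S : Subgroup G) P : Set G))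
  (hff : FFMod (S : Subgroup G) P)
include hc hne r hP hn hPM hN hff

/-- No member of a chain from `M` has a block structure. -/
theorem not_hasBlk (rc : Reach S M L) {U H : Subgroup G} (hH : H ≤ normalizer (U : Set G))
    (hU : U ≤ centralizer (U : Set G)) (hMH : ML (S : Subgroup G) L ≤ H) (hVU : VL (S : Subgroup G) L ≤ U) :
    ¬ HasBlk (S : Subgroup G) L hH hU := by
  intro hB
  have hst : Stage S M := ⟨r.root hc, r.low⟩
  have hL := rc.stage hc hne hst
  obtain ⟨A, hAS, hoff⟩ := hff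
  refine false_of_blk hc hne hP hn hL.toRoot ?_ (fun P' hP' _ => hN P' hP') hAS hoff hH hU hMH hVU hB
  exact (hPM.trans hst.toRoot.L_le).trans (rc.ML_le hc hne hst)

/-- **`P ∈ P**` FF, all of `P*(S)` normalises `V_P`, `P ≤ M`: `M` is not a root (`⟨Z^M⟩` not FF, in `O₂(C_G(Z))`).** -/
theorem false_of_nfRoot : False := by
  have hst : Stage S M := ⟨r.root hc, r.low⟩
  obtain ⟨L, rc, hl⟩ := exists_last hc hne hst
  have hL := rc.stage hc hne hst
  obtain ⟨F, T, X, f, hZ, p⟩ := hL.exists_panel hc hne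
    (Root.nle (P := P) hL.toRoot (hPM.trans (rc.le hc hne hst)) hn hne)
  have hff' := BetaTwo.last_ff hL hc hne hl f hZ p
  exact not_hasBlk hc hne r hP hn hPM hN hff rc (Chain.hN (S : Subgroup G) L X) (hL.cU hc hne f hZ p) Step.ML_le
    Step.V_le (hL.hasBlk hc hne f hZ p hff')

end root

/-- **(C)(2)**: `V_0 = ⟨Z^{M₀}⟩` not FF and in `O₂(C_G(Z))`, `⟨Z^{⟨P*(S)⟩}⟩ = V_R`, `R ∈ P**`, is impossible. -/
theorem ctwo (w : W0 S) (r : NFRoot (S : Subgroup G) (M0 (S : Subgroup G))) {R : Subgroup G}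
    (hR : PSS (S : Subgroup G) R)
    (he : zl (S : Subgroup G) (MZ (S : Subgroup G)) = zl (S : Subgroup G) R) : False := by
  refine false_of_nfRoot w.ctx.char2 w.zc_ne r hR.par hR.nonLoc (par_le hR.par) (fun P' hP' => ?_) (w.ff R hR)
  rw [← he]
  exact (le_sSup (s := {P | IsParS (S : Subgroup G) P}) hP').trans (le_normalizer_zl _ _)

end Cfsg.Agent.Omega.NO3b.CTwoFF
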